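import Groth.Agent.Lib.CMReg18.Mult
import Groth.Agent.Lib.CurveCoh17.TensorExact
import Groth.Agent.Lib.CurveCoh17.LES
import Groth.Agent.Lib.Snapper.Twist
import Groth.Agent.Lib.CohFound.ProperFinite
import Groth.Agent.Lib.TensorMod.Invertible

/-!
# Products of sections through the kernel of evaluation
-/

set_option autoImplicit false
set_option linter.style.haveILetI false
set_option backward.isDefEq.respectTransparency false

universe u

open CategoryTheory CategoryTheory.Limits AlgebraicGeometry TopologicalSpace Opposite TensorProduct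

namespace Groth.Agent.SyzMult

open Groth.Agent Groth.Agent.M1 Groth.Agent.M2 Groth.Agent.CurveCoh17

variable {X : Scheme.{u}}

/-- A short exact sequence with invertible quotient stays exact after tensoring. -/
theorem shortExact_tensorR_of_invertible_quot {S : ShortComplex X.Modules} (hS : S.ShortExact)
    (h3 : PicF.IsInvertible S.X₃) (E : X.Modules) : (S.map (tensorR E)).ShortExact := by
  haveI := hS.mono_f
  haveI := hS.epi_g
  have hinj : ∀ x, Function.Injective (stalkLin S.f x) := (mono_iff_stalk S.f).1 hS.mono_f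
  have hsurj : ∀ x, Function.Surjective (stalkLin S.g x) := (epi_iff_stalk S.g).1 hS.epi_g
  have hex : ∀ x, Function.Exact (stalkLin S.f x) (stalkLin S.g x) := fun x c => by
    refine ⟨fun hc => (exact_iff_stalk_eq_zero S).1 hS.exact x c hc, ?_⟩
    rintro ⟨a, rfl⟩
    show ((stalkAb x).map S.f ≫ (stalkAb x).map S.g) a = 0
    rw [← Functor.map_comp, S.zero, Functor.map_zero]
    rfl
  refine { exact := ?_, mono_f := ?_, epi_g := ?_ }
  · rw [exact_iff_stalk_eq_zero]
    intro x b hb
    have hex' := rTensor_exact (E.presheaf.stalk x) (hex x) (hsurj x)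
    have h0 : LinearMap.rTensor (E.presheaf.stalk x) (stalkLin S.g x) (stalkEquiv S.X₂ E x b) = 0 := by
      rw [← stalkEquiv_natural]
      exact (congrArg _ hb).trans (map_zero _)
    obtain ⟨c, hc⟩ := (hex' _).1 h0
    obtain ⟨a, rfl⟩ := (stalkEquiv S.X₁ E x).surjective c
    refine ⟨a, (stalkEquiv S.X₂ E x).injective ?_⟩
    rw [← hc]
    exact stalkEquiv_natural S.f E x a
  · refine (mono_iff_stalk _).2 fun x a b h => (stalkEquiv S.X₁ E x).injective ?_
    haveI := Snapper.flat_stalk h3 x
    haveI : Module.Finite (X.presheaf.stalk x) (S.X₃.presheaf.stalk x) :=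
      Module.Finite.equiv (nonempty_stalk_equiv ((M2.isInvertible_iff_isFinLocFreeOfRank_one S.X₃).1 h3) x).some.symm
    haveI : Module.Free (X.presheaf.stalk x) (S.X₃.presheaf.stalk x) := Module.free_of_flat_of_isLocalRing
    obtain ⟨sec, hsec⟩ := Module.projective_lifting_property (stalkLin S.g x) LinearMap.id (hsurj x)
    obtain ⟨l, hl⟩ := (((hex x).split_tfae (hinj x) (hsurj x)).out 0 1).1 (show ∃ l, stalkLin S.g x ∘ₗ l = LinearMap.id from ⟨sec, hsec⟩)
    have key : Function.Injective (LinearMap.rTensor (E.presheaf.stalk x) (stalkLin S.f x)) :=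
      Function.LeftInverse.injective (g := LinearMap.rTensor (E.presheaf.stalk x) l) fun z => by
        rw [← LinearMap.comp_apply, ← LinearMap.rTensor_comp, hl, LinearMap.rTensor_id]
        rfl
    apply key
    rw [← stalkEquiv_natural, ← stalkEquiv_natural]
    exact congrArg _ h
  · refine (epi_iff_stalk _).2 fun x b => ?_
    obtain ⟨c, hc⟩ := LinearMap.rTensor_surjective (E.presheaf.stalk x) (hsurj x) (stalkEquiv S.X₃ E x b)
    obtain ⟨a, rfl⟩ := (stalkEquiv S.X₂ E x).surjective c
    refine ⟨a, (stalkEquiv S.X₃ E x).injective ?_⟩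
    rw [← hc]
    exact stalkEquiv_natural S.g E x a

/-- The unit module. -/
noncomputable abbrev unitM (X : Scheme.{u}) : X.Modules := Coh.structureModule X

/-- The projections of a free module. -/
noncomputable def proj {J : Type u} (j : J) : (SheafOfModules.free J : X.Modules) ⟶ unitM X :=
  open scoped Classical in
  Sigma.desc fun i => if i = j then 𝟙 _ else 0

/-- The inclusions of a free module. -/
noncomputable def incl {J : Type u} (j : J) : unitM X ⟶ (SheafOfModules.free J : X.Modules) :=
  Sigma.ι (fun _ : J => unitM X) j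

theorem incl_proj {J : Type u} (i j : J) [Decidable (i = j)] :
    incl (X := X) i ≫ proj j = if i = j then 𝟙 _ else 0 := by
  classical
  refine (Sigma.ι_desc _ _).trans ?_
  convert rfl

theorem sum_proj_incl {J : Type u} [Fintype J] :
    ∑ j : J, proj (X := X) j ≫ incl j = 𝟙 (SheafOfModules.free J : X.Modules) := by
  classical
  refine Sigma.hom_ext _ _ fun i => ?_
  show incl i ≫ (∑ j : J, proj j ≫ incl j) = incl i ≫ 𝟙 _
  rw [Preadditive.comp_sum, Finset.sum_eq_single i, ← Category.assoc, incl_proj, if_pos rfl,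
    Category.id_comp, Category.comp_id]
  · intro j _ hj
    rw [← Category.assoc, incl_proj, if_neg (Ne.symm hj), zero_comp]
  · simp

variable (k : Type u) [Field k] [X.Over (Spec (CommRingCat.of k))] [IsProper (X ↘ Spec (CommRingCat.of k))]

include k in
theorem finite_index [Nonempty X] {L : X.Modules} (hL : PicF.IsInvertible L) {J : Type u}
    (ev : (SheafOfModules.free J : X.Modules) ⟶ L) (hev : Function.Injective (hmap k ev 0)) : Finite J := by
  classical
  haveI : IsNoetherian X := CohFound.isNoetherian_of_isProper (X ↘ Spec (CommRingCat.of k))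
  haveI : Module.Finite k (Coh.HH X L 0) := CohFound.finite_HH_of_isProper L (Snapper.isCoh_of_isInvertible hL) 0
  let one0 : Coh.HH X (unitM X) 0 := (hh0 (unitM X)).symm (M1.one ⊤)
  haveI : Nonempty (⊤ : X.Opens) := ⟨⟨Classical.arbitrary X, trivial⟩⟩
  haveI : Nontrivial Γ(X, ⊤) := Scheme.component_nontrivial X ⊤
  have hone : one0 ≠ 0 := fun h => one_ne_zero (α := Γ(X, ⊤)) (by
    have := congrArg (hh0 (unitM X)) h
    rw [AddEquiv.apply_symm_apply, map_zero] at this
    exact this)
  have hli : LinearIndependent k fun j : J => hmap k ev 0 (hmap k (incl j) 0 one0) := by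
    refine LinearIndependent.map' ?_ _ (LinearMap.ker_eq_bot.2 hev)
    refine linearIndependent_iff'.2 fun s g hs i hi => ?_
    have := congrArg (hmap k (proj i) 0) hs
    rw [map_sum, map_zero, Finset.sum_eq_single i] at this
    · rw [map_smul, ← hmap_comp, incl_proj, if_pos rfl, hmap_id] at this
      exact (smul_eq_zero.1 this).resolve_right hone
    · intro j _ hj
      rw [map_smul, ← hmap_comp, incl_proj, if_neg hj, hmap_zero, smul_zero]
    · exact fun h => absurd hi h
  exact hli.finite

include k in
theorem mem_prods_of_vanish {L : X.Modules} (hL : PicF.IsInvertible L) {J : Type u} [Finite J]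
    (ev : (SheafOfModules.free J : X.Modules) ⟶ L) [Epi ev] (F : X.Modules)
    (hvan : Subsingleton (Coh.HH X (CohB1.tensorMod (kernel ev) F) 1))
    (y : Γ(CohB1.tensorMod L F, (⊤ : X.Opens))) : y ∈ CMReg18.TwistData.prods L F := by
  classical
  haveI := Fintype.ofFinite J
  let S := ShortComplex.mk (kernel.ι ev) ev (kernel.condition ev)
  have hS : S.ShortExact := ShortComplex.ShortExact.mk' (ShortComplex.exact_kernel ev) inferInstance inferInstance
  haveI : (tensorR F).Additive := M2.tensorR_additive F
  have hT := shortExact_tensorR_of_invertible_quot hS hL F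
  let g : CohB1.tensorMod (SheafOfModules.free J : X.Modules) F ⟶ CohB1.tensorMod L F := tensorMap ev (𝟙 F)
  obtain ⟨x, hx⟩ : ∃ x, hmap k g 0 x = (hh0 _).symm y := by
    refine ((exact_hmap_hdelta (A := k) hT 0) ((hh0 _).symm y)).1 ?_
    exact @Subsingleton.elim _ hvan _ _
  have hy : y = g.app ⊤ (hh0 _ x) := by rw [← hh0_hmap k g x, hx, AddEquiv.apply_symm_apply]
  let z := hh0 _ x
  have hz : ∑ j : J, (tensorR F).map (proj j ≫ incl j) = 𝟙 _ := by
    rw [← Functor.map_sum, sum_proj_incl, CategoryTheory.Functor.map_id]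
  have hz' : z = ∑ j : J, ((tensorR F).map (proj j ≫ incl j)).app ⊤ z := by
    have h := congrArg (fun f : CohB1.tensorMod (SheafOfModules.free J : X.Modules) F ⟶ _ => f.app ⊤ z) hz
    simp only [Scheme.Modules.Hom.id_app] at h
    refine h.symm.trans ?_
    induction (Finset.univ : Finset J) using Finset.induction_on with
    | empty => simp
    | insert a s ha ih => rw [Finset.sum_insert ha, Finset.sum_insert ha, ← ih]; rfl
  rw [hy, show hh0 _ x = z from rfl, hz', map_sum]
  refine AddSubgroup.sum_mem _ fun j _ => ?_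
  let w := (tensorMap (proj j) (𝟙 F)).app ⊤ z
  have hw : ∃ c, w = M2.tsec (unitM X) F (M1.one ⊤) c := by
    refine ⟨(tensorLUnit F).hom.app ⊤ w, ?_⟩
    rw [← CMReg18.TwistData.lUnit_inv_app]
    exact (congrArg (fun f => f.app ⊤ w) (tensorLUnit F).hom_inv_id).symm
  obtain ⟨c, hc⟩ := hw
  have : g.app ⊤ (((tensorR F).map (proj j ≫ incl j)).app ⊤ z) =
      (tensorMap (incl j ≫ ev) (𝟙 F)).app ⊤ w := by
    have e : (tensorR F).map (proj j ≫ incl j) ≫ g = tensorMap (proj j) (𝟙 F) ≫ tensorMap (incl j ≫ ev) (𝟙 F) := by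
      show tensorMap (proj j ≫ incl j) (𝟙 F) ≫ tensorMap ev (𝟙 F) = _
      rw [← tensorMap_comp, ← tensorMap_comp, Category.assoc, Category.id_comp]
    exact congrArg (fun f : CohB1.tensorMod (SheafOfModules.free J : X.Modules) F ⟶ _ => f.app ⊤ z) e
  rw [this, hc, M2.tensorMap_tsec]
  exact CMReg18.TwistData.tsec_mem_prods _ _

end Groth.Agent.SyzMult
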